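import Groth.Agent.H8ProCons.ConsTopology
import Mathlib.Topology.Spectral.Basic
import Mathlib.Topology.Spectral.Hom

/-!
# Spectral spaces: subspaces, products, constructible topology
-/

set_option autoImplicit false

open Topology TopologicalSpace Set

namespace Groth.Agent.SpecSp

open Groth.Agent.H8ProCons

section Basic

variable {X Y : Type*} [TopologicalSpace X] [TopologicalSpace Y]

/-- The sets closed in the constructible topology are compact. -/
lemma isCompact_of_cons [SpectralSpace X] {E : Set X}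
    (hE : IsClosed[constructibleTopology X] E) : IsCompact E :=
  @IsCompact.image X X (constructibleTopology X) _ E id (isCompact_cons hE)
    (@Continuous.mk X X (constructibleTopology X) _ id fun _ hU => isOpen_cons_of_isOpen hU) |>
    fun h => by rwa [Set.image_id] at h

lemma isClosed_cons_of_isClosed [PrespectralSpace X] {E : Set X} (hE : IsClosed E) :
    IsClosed[constructibleTopology X] E :=
  (@isOpen_compl_iff X E (constructibleTopology X)).1 (isOpen_cons_of_isOpen hE.isOpen_compl)

lemma isClosed_cons_of_isCompactOpen {U : Set X} (hU : IsOpen U) (hc : IsCompact U) :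
    IsClosed[constructibleTopology X] U :=
  (@isOpen_compl_iff X U (constructibleTopology X)).1 (isOpen_cons_compl_of_isCompact hU hc)

lemma exists_compactOpen [PrespectralSpace X] {x : X} {U : Set X} (hU : IsOpen U) (hx : x ∈ U) :
    ∃ V, IsOpen V ∧ IsCompact V ∧ x ∈ V ∧ V ⊆ U := by
  obtain ⟨V, hV, hxV, hVU⟩ :=
    PrespectralSpace.isTopologicalBasis.exists_subset_of_mem_open hx hU
  exact ⟨V, hV.1, hV.2, hxV, hVU⟩

lemma continuous_cons_of_spectral {f : X → Y} (hf : IsSpectralMap f) :
    @Continuous X Y (constructibleTopology X) (constructibleTopology Y) f :=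
  continuous_cons hf.continuous fun _ h h' => hf.isCompact_preimage_of_isOpen h h'

/-- A continuous map of spectral spaces which is continuous for the constructible topologies is
spectral. -/
lemma isSpectralMap_of_continuous_cons [SpectralSpace X] {f : X → Y} (hf : Continuous f)
    (h : @Continuous X Y (constructibleTopology X) (constructibleTopology Y) f) : IsSpectralMap f :=
  ⟨hf, fun _ hs hs' => isCompact_of_cons
    (@IsClosed.preimage X Y (constructibleTopology X) (constructibleTopology Y) _ h _
      (isClosed_cons_of_isCompactOpen hs hs'))⟩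

/-- Images of constructibly closed sets under spectral maps are constructibly closed. -/
lemma isClosed_cons_image [SpectralSpace X] [SpectralSpace Y] {f : X → Y} (hf : IsSpectralMap f)
    {E : Set X} (hE : IsClosed[constructibleTopology X] E) :
    IsClosed[constructibleTopology Y] (f '' E) :=
  @IsCompact.isClosed Y (constructibleTopology Y) t2Space_cons _
    (@IsCompact.image X Y (constructibleTopology X) (constructibleTopology Y) E f (isCompact_cons hE)
      (continuous_cons_of_spectral hf))

lemma isClosed_cons_range [SpectralSpace X] [SpectralSpace Y] {f : X → Y} (hf : IsSpectralMap f) :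
    IsClosed[constructibleTopology Y] (Set.range f) := by
  rw [← Set.image_univ]
  exact isClosed_cons_image hf (@isClosed_univ X (constructibleTopology X))

/-- An intersection of constructibly closed sets is empty only if a finite one is. -/
lemma nonempty_iInter_cons [SpectralSpace X] {ι : Type*} (A : ι → Set X)
    (hA : ∀ i, IsClosed[constructibleTopology X] (A i))
    (h : ∀ s : Finset ι, (⋂ i ∈ s, A i).Nonempty) : (⋂ i, A i).Nonempty := by
  obtain ⟨x, -, hx⟩ := @IsCompact.inter_iInter_nonempty X (constructibleTopology X) univ ι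
    (isCompact_cons (@isClosed_univ X (constructibleTopology X))) A hA
    (fun s => by rw [Set.univ_inter]; exact h s)
  exact ⟨x, hx⟩

lemma isClosed_of_cons_of_stable [SpectralSpace X] {E : Set X}
    (hE : IsClosed[constructibleTopology X] E) (h : StableUnderSpecialization E) : IsClosed E :=
  isClosed_of_closure_subset fun _ hx =>
    let ⟨_, hy, hyx⟩ := exists_specializes_of_mem_closure hE hx
    h hyx hy

lemma isOpen_of_cons_of_stable [SpectralSpace X] {E : Set X}
    (hE : IsOpen[constructibleTopology X] E) (h : StableUnderGeneralization E) : IsOpen E :=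
  isClosed_compl_iff.1 (isClosed_of_cons_of_stable
    ((@isClosed_compl_iff X (constructibleTopology X) E).2 hE)
    (stableUnderSpecialization_compl_iff.2 h))

/-- The generalisations of a compact set are an intersection of compact opens. -/
lemma generalizations_eq_sInter [PrespectralSpace X] {E : Set X} (hE : IsCompact E) :
    {x | ∃ e ∈ E, x ⤳ e} = ⋂₀ {U | (IsOpen U ∧ IsCompact U) ∧ E ⊆ U} := by
  refine Set.Subset.antisymm (fun x ⟨e, he, hxe⟩ U hU => hxe.mem_open hU.1.1 (hU.2 he)) fun x hx => ?_
  by_contra hne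
  have hne' : ∀ e ∈ E, ∃ V, IsOpen V ∧ IsCompact V ∧ e ∈ V ∧ x ∉ V := fun e he => by
    obtain ⟨U, hU, heU, hxU⟩ := not_specializes_iff_exists_open.1 fun h => hne ⟨e, he, h⟩
    obtain ⟨V, hV, hVc, heV, hVU⟩ := exists_compactOpen hU heU
    exact ⟨V, hV, hVc, heV, fun h => hxU (hVU h)⟩
  choose V hV hVc heV hxV using hne'
  obtain ⟨t, ht⟩ := hE.elim_finite_subcover (fun e : E => V e e.2) (fun e => hV e e.2)
    (fun e he => mem_iUnion.2 ⟨⟨e, he⟩, heV e he⟩)
  obtain ⟨e, -, he⟩ := mem_iUnion₂.1 (hx _ ⟨⟨isOpen_biUnion fun e _ => hV e.1 e.2,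
    t.finite_toSet.isCompact_biUnion fun e _ => hVc e.1 e.2⟩, ht⟩)
  exact hxV _ e.2 he

lemma spectralSpace_of_finite [Finite X] [T0Space X] : SpectralSpace X where
  sober := fun {S} hS hc => by
    have hsub : S ⊆ ⋃₀ ((fun x => closure ({x} : Set X)) '' S) := fun x hx =>
      ⟨_, ⟨x, hx, rfl⟩, subset_closure rfl⟩
    obtain ⟨t, ht, hSt⟩ := isIrreducible_iff_sUnion_isClosed.1 hS
      (Set.toFinite ((fun x => closure ({x} : Set X)) '' S)).toFinset
      (fun t ht => by
        obtain ⟨x, -, rfl⟩ := (Set.Finite.mem_toFinset _).1 ht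
        exact isClosed_closure)
      (by rwa [Set.Finite.coe_toFinset])
    obtain ⟨x, hx, rfl⟩ := (Set.Finite.mem_toFinset _).1 ht
    exact ⟨x, (hc.closure_subset_iff.2 (Set.singleton_subset_iff.2 hx)).antisymm hSt⟩
  isTopologicalBasis := isTopologicalBasis_of_isOpen_of_nhds (fun U hU => hU.1)
    fun x U hx hU => ⟨U, ⟨hU, (Set.toFinite U).isCompact⟩, hx, Set.Subset.rfl⟩
  inter_isCompact := fun U V _ _ _ _ => (Set.toFinite (U ∩ V)).isCompact

lemma isSpectralMap_of_finite [Finite X] {f : X → Y} (hf : Continuous f) : IsSpectralMap f :=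
  ⟨hf, fun _ _ _ => (Set.toFinite _).isCompact⟩

/-- A subspace closed in the constructible topology is spectral. -/
theorem spectralSpace_of_isEmbedding [SpectralSpace Y] {f : X → Y} (hf : IsEmbedding f)
    (h : IsClosed[constructibleTopology Y] (Set.range f)) :
    SpectralSpace X ∧ IsSpectralMap f := by
  have hcpt : ∀ W : Set Y, IsClosed[constructibleTopology Y] W → IsCompact (f ⁻¹' W) := fun W hW =>
    hf.isCompact_iff.2 (by
      rw [Set.image_preimage_eq_inter_range]
      exact isCompact_of_cons (@IsClosed.inter Y W _ (constructibleTopology Y) hW h))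
  have hfs : IsSpectralMap f :=
    ⟨hf.continuous, fun W hW hW' => hcpt W (isClosed_cons_of_isCompactOpen hW hW')⟩
  have : PrespectralSpace X := .of_isInducing f hf.isInducing hfs
  have : T0Space X := hf.t0Space
  have : CompactSpace X := ⟨by simpa using hcpt univ (@isClosed_univ Y (constructibleTopology Y))⟩
  have hext : ∀ U : Set X, IsOpen U → IsCompact U → ∃ W, IsOpen W ∧ IsCompact W ∧ f ⁻¹' W = U := by
    intro U hU hUc
    obtain ⟨W₀, hW₀, rfl⟩ := hf.isInducing.isOpen_iff.1 hU
    obtain ⟨W, hWc, hW, hUW, hWW₀⟩ := PrespectralSpace.exists_isCompact_and_isOpen_between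
      (hUc.image hf.continuous) hW₀ (Set.image_preimage_subset f W₀)
    exact ⟨W, hW, hWc, Set.Subset.antisymm (Set.preimage_mono hWW₀)
      fun x hx => hUW (Set.mem_image_of_mem f hx)⟩
  have hqs : ∀ U V : Set X, IsOpen U → IsCompact U → IsOpen V → IsCompact V → IsCompact (U ∩ V) := by
    intro U V hU hUc hV hVc
    obtain ⟨A, hA, hAc, rfl⟩ := hext U hU hUc
    obtain ⟨B, hB, hBc, rfl⟩ := hext V hV hVc
    rw [← Set.preimage_inter]
    exact hcpt _ (@IsClosed.inter Y A B (constructibleTopology Y)
      (isClosed_cons_of_isCompactOpen hA hAc) (isClosed_cons_of_isCompactOpen hB hBc))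
  have hsob : ∀ {S : Set X}, IsIrreducible S → IsClosed S → ∃ x, IsGenericPoint x S := by
    intro S hS hc
    obtain ⟨η, hη⟩ := QuasiSober.sober ((hS.image f hf.continuous.continuousOn).closure) isClosed_closure
    let ι := {W : Set Y // IsOpen W ∧ IsCompact W ∧ η ∈ W}
    obtain ⟨y, hy, hy'⟩ := @IsCompact.inter_iInter_nonempty Y (constructibleTopology Y)
      (Set.range f ∩ closure (f '' S)) ι
      (isCompact_cons (@IsClosed.inter Y _ _ (constructibleTopology Y) h
        (isClosed_cons_of_isClosed isClosed_closure)))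
      (fun W => W.1) (fun W => isClosed_cons_of_isCompactOpen W.2.1 W.2.2.1) (fun u => by
        obtain ⟨y, hy, hyW⟩ := mem_closure_iff.1 hη.mem (⋂ W ∈ u, W.1)
          (isOpen_biInter_finset fun W _ => W.2.1) (mem_iInter₂.2 fun W _ => W.2.2.2)
        exact ⟨y, ⟨Set.image_subset_range f S hyW, subset_closure hyW⟩, hy⟩)
    obtain ⟨⟨x, rfl⟩, hxS⟩ := hy
    have h1 : f x ⤳ η := specializes_iff_forall_open.2 fun W hW hηW => by
      obtain ⟨V, hV, hVc, hηV, hVW⟩ := exists_compactOpen hW hηW
      exact hVW (mem_iInter.1 hy' ⟨V, hV, hVc, hηV⟩)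
    have he : f x = η := (h1.antisymm (hη.specializes hxS)).eq
    refine ⟨x, show closure {x} = S from ?_⟩
    rw [hf.closure_eq_preimage_closure_image, Set.image_singleton, he, hη.def,
      ← hf.closure_eq_preimage_closure_image, hc.closure_eq]
  exact ⟨{ sober := hsob, inter_isCompact := hqs }, hfs⟩

end Basic

section Pi

variable {ι : Type*} {X : ι → Type*} [∀ i, TopologicalSpace (X i)] [∀ i, SpectralSpace (X i)]

/-- The basic compact opens of a product. -/
def boxes (X : ι → Type*) [∀ i, TopologicalSpace (X i)] : Set (Set (∀ i, X i)) :=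
  {B | ∃ A : ∀ i, Set (X i), B = Set.univ.pi A ∧ (∀ i, IsOpen (A i) ∧ IsCompact (A i)) ∧
    ∃ s : Finset ι, ∀ i ∉ s, A i = univ}

omit [∀ i, SpectralSpace (X i)] in
lemma isOpen_of_mem_boxes {B : Set (∀ i, X i)} (hB : B ∈ boxes X) : IsOpen B := by
  obtain ⟨A, rfl, hA, s, hs⟩ := hB
  have : Set.univ.pi A = (s : Set ι).pi A := Set.ext fun x => ⟨fun h i _ => h i trivial, fun h i _ => by
    by_cases hi : i ∈ s
    · exact h i hi
    · rw [hs i hi]; trivial⟩
  rw [this]
  exact isOpen_set_pi s.finite_toSet fun i _ => (hA i).1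

omit [∀ i, SpectralSpace (X i)] in
lemma isCompact_of_mem_boxes {B : Set (∀ i, X i)} (hB : B ∈ boxes X) : IsCompact B := by
  obtain ⟨A, rfl, hA, -⟩ := hB
  exact isCompact_univ_pi fun i => (hA i).2

lemma isTopologicalBasis_boxes : IsTopologicalBasis (boxes X) := by
  classical
  refine isTopologicalBasis_of_isOpen_of_nhds (fun B hB => isOpen_of_mem_boxes hB) fun x U hx hU => ?_
  obtain ⟨s, V, hV, hVU⟩ := isOpen_pi_iff.1 hU x hx
  have hW : ∀ i : s, ∃ W, IsOpen W ∧ IsCompact W ∧ x i ∈ W ∧ W ⊆ V i := fun i =>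
    exists_compactOpen (hV i i.2).1 (hV i i.2).2
  choose W hWo hWc hxW hWV using hW
  let A : ∀ i, Set (X i) := fun i => if h : i ∈ s then W ⟨i, h⟩ else univ
  refine ⟨univ.pi A, ⟨A, rfl, fun i => ?_, s, fun i hi => dif_neg hi⟩, fun i _ => ?_, fun y hy => hVU fun i hi => ?_⟩
  · by_cases h : i ∈ s
    · simp only [A, dif_pos h]; exact ⟨hWo _, hWc _⟩
    · simp only [A, dif_neg h]; exact ⟨isOpen_univ, isCompact_univ⟩
  · by_cases h : i ∈ s
    · simp only [A, dif_pos h]; exact hxW ⟨i, h⟩
    · simp only [A, dif_neg h]; trivial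
  · have := hy i trivial
    simp only [A, dif_pos (show i ∈ s from hi)] at this
    exact hWV ⟨i, hi⟩ this

lemma inter_mem_boxes {B C : Set (∀ i, X i)} (hB : B ∈ boxes X) (hC : C ∈ boxes X) :
    B ∩ C ∈ boxes X := by
  classical
  obtain ⟨A, rfl, hA, s, hs⟩ := hB
  obtain ⟨A', rfl, hA', t, ht⟩ := hC
  exact ⟨fun i => A i ∩ A' i, (Set.pi_inter_distrib).symm,
    fun i => ⟨(hA i).1.inter (hA' i).1,
      QuasiSeparatedSpace.inter_isCompact _ _ (hA i).1 (hA i).2 (hA' i).1 (hA' i).2⟩,
    s ∪ t, fun i hi => by simp only [Finset.mem_union, not_or] at hi; simp [hs i hi.1, ht i hi.2]⟩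

instance spectralSpace_pi : SpectralSpace (∀ i, X i) := by
  classical
  have : PrespectralSpace (∀ i, X i) :=
    .of_isTopologicalBasis isTopologicalBasis_boxes fun B hB => isCompact_of_mem_boxes hB
  have hcov : ∀ U : Set (∀ i, X i), IsOpen U → IsCompact U →
      ∃ t : Set (Set (∀ i, X i)), t ⊆ boxes X ∧ t.Finite ∧ U = ⋃₀ t := by
    intro U hU hUc
    obtain ⟨S, hS, rfl⟩ := isTopologicalBasis_boxes.open_eq_sUnion hU
    obtain ⟨t, htS, htf, hsub⟩ := hUc.elim_finite_subcover_image (c := id)
      (fun B hB => isOpen_of_mem_boxes (hS hB)) (by simp [Set.sUnion_eq_biUnion])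
    refine ⟨t, htS.trans hS, htf, Set.Subset.antisymm ?_ (Set.sUnion_mono htS)⟩
    simpa [Set.sUnion_eq_biUnion] using hsub
  have hqs : ∀ U V : Set (∀ i, X i), IsOpen U → IsCompact U → IsOpen V → IsCompact V →
      IsCompact (U ∩ V) := by
    intro U V hU hUc hV hVc
    obtain ⟨t, ht, htf, rfl⟩ := hcov U hU hUc
    obtain ⟨t', ht', htf', rfl⟩ := hcov V hV hVc
    rw [Set.sUnion_inter_sUnion]
    exact (htf.prod htf').isCompact_biUnion fun p hp =>
      isCompact_of_mem_boxes (inter_mem_boxes (ht hp.1) (ht' hp.2))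
  have hsob : ∀ {S : Set (∀ i, X i)}, IsIrreducible S → IsClosed S → ∃ x, IsGenericPoint x S := by
    intro S hS hc
    choose η hη using fun i => QuasiSober.sober
      ((hS.image (fun x : ∀ i, X i => x i) (continuous_apply i).continuousOn).closure) isClosed_closure
    have hmem : η ∈ S := by
      rw [← hc.closure_eq, mem_closure_iff]
      intro U hU hηU
      obtain ⟨s, V, hV, hVU⟩ := isOpen_pi_iff.1 hU η hηU
      obtain ⟨z, hzS, hz⟩ := isIrreducible_iff_sInter.1 hS
        (s.image fun i => (fun x : ∀ i, X i => x i) ⁻¹' V i)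
        (fun W hW => by
          obtain ⟨i, hi, rfl⟩ := Finset.mem_image.1 hW
          exact (hV i hi).1.preimage (continuous_apply i))
        (fun W hW => by
          obtain ⟨i, hi, rfl⟩ := Finset.mem_image.1 hW
          obtain ⟨y, hy, x, hx, rfl⟩ := mem_closure_iff.1 (hη i).mem _ (hV i hi).1 (hV i hi).2
          exact ⟨x, hx, hy⟩)
      exact ⟨z, hVU fun i hi => hz _ (Finset.mem_image_of_mem _ hi), hzS⟩
    refine ⟨η, (hc.closure_subset_iff.2 (Set.singleton_subset_iff.2 hmem)).antisymm fun z hz => ?_⟩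
    refine specializes_iff_mem_closure.1 (specializes_pi.2 fun i => ?_)
    exact (hη i).specializes (subset_closure ⟨z, hz, rfl⟩)
  exact { sober := hsob, inter_isCompact := hqs }

lemma isSpectralMap_apply (i : ι) : IsSpectralMap (fun x : ∀ i, X i => x i) := by
  classical
  refine ⟨continuous_apply i, fun W hW hW' => ?_⟩
  have : (fun x : ∀ i, X i => x i) ⁻¹' W = univ.pi (Function.update (fun i => univ) i W) := by
    ext x
    refine ⟨fun hx j _ => ?_, fun hx => by simpa using hx i trivial⟩
    by_cases h : j = i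
    · subst h; simpa using hx
    · simp [Function.update_of_ne h]
  rw [this]
  refine isCompact_univ_pi fun j => ?_
  by_cases h : j = i
  · subst h; simpa using hW'
  · simp [Function.update_of_ne h, isCompact_univ]

end Pi

end Groth.Agent.SpecSp
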