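import Groth.Agent.SpecSp.Basic
import Mathlib.Topology.Category.TopCat.Limits.Basic
import Mathlib.CategoryTheory.Filtered.Basic

/-!
# Limits of spectral spaces along spectral maps
-/

set_option autoImplicit false

universe u

open Topology TopologicalSpace Set CategoryTheory CategoryTheory.Limits

namespace Groth.Agent.SpecSp

open Groth.Agent.H8ProCons

variable {J : Type u} [SmallCategory J] {F : J ⥤ TopCat.{u}}

/-- The compatible families. -/
def sectionsSet (F : J ⥤ TopCat.{u}) : Set (∀ j, F.obj j) :=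
  {x | ∀ (i j : J) (a : i ⟶ j), F.map a (x i) = x j}

/-- The components of a point of a cone. -/
def toPi (c : Cone F) (x : c.pt) : ∀ j, F.obj j := fun j => c.π.app j x

lemma toPi_mem (c : Cone F) (x : c.pt) : toPi c x ∈ sectionsSet F := fun _ _ a =>
  ConcreteCategory.congr_hom (c.w a) x

lemma isEmbedding_toPi {c : Cone F} (hc : IsLimit c) :
    IsEmbedding (toPi c) ∧ Set.range (toPi c) = sectionsSet F := by
  let e := hc.conePointUniqueUpToIso (TopCat.limitConeIsLimit F)
  have he : ∀ x, toPi c x = ((TopCat.homeoOfIso e) x).1 := fun x => funext fun j =>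
    (ConcreteCategory.congr_hom (IsLimit.conePointUniqueUpToIso_hom_comp hc (TopCat.limitConeIsLimit F) j) x).symm
  have he' : toPi c = (fun z : (TopCat.limitCone F).pt => z.1) ∘ TopCat.homeoOfIso e := funext he
  refine ⟨he' ▸ IsEmbedding.subtypeVal.comp (TopCat.homeoOfIso e).isEmbedding, ?_⟩
  refine Set.Subset.antisymm (Set.range_subset_iff.2 (toPi_mem c)) fun x hx => ?_
  exact ⟨(TopCat.homeoOfIso e).symm ⟨x, fun {i j} a => hx i j a⟩,
    (he _).trans (congrArg Subtype.val ((TopCat.homeoOfIso e).apply_symm_apply _))⟩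

lemma map_π (c : Cone F) {i j : J} (a : i ⟶ j) (x : c.pt) :
    F.map a (c.π.app i x) = c.π.app j x :=
  toPi_mem c x i j a

variable (hF : ∀ j, SpectralSpace (F.obj j))
  (hFm : ∀ {i j : J} (a : i ⟶ j), IsSpectralMap (F.map a : F.obj i → F.obj j))

include hF hFm

lemma isClosed_cons_eq {i j : J} (a : i ⟶ j) :
    IsClosed[constructibleTopology (∀ j, F.obj j)] {x : ∀ j, F.obj j | F.map a (x i) = x j} := by
  have := hF
  exact @isClosed_eq (F.obj j) _ (constructibleTopology (F.obj j))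
    (constructibleTopology (∀ j, F.obj j)) t2Space_cons _ _
    (continuous_cons_of_spectral ((hFm a).comp (isSpectralMap_apply i)))
    (continuous_cons_of_spectral (isSpectralMap_apply j))

lemma isClosed_cons_sectionsSet :
    IsClosed[constructibleTopology (∀ j, F.obj j)] (sectionsSet F) := by
  have : sectionsSet F = ⋂ i, ⋂ j, ⋂ a : i ⟶ j, {x : ∀ j, F.obj j | F.map a (x i) = x j} := by
    ext x; simp [sectionsSet]
  rw [this]
  exact @isClosed_iInter _ _ (constructibleTopology _) _ fun i =>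
    @isClosed_iInter _ _ (constructibleTopology _) _ fun j =>
      @isClosed_iInter _ _ (constructibleTopology _) _ fun a => isClosed_cons_eq hF hFm a

variable {c : Cone F} (hc : IsLimit c)
include hc

theorem spectralSpace_limit :
    SpectralSpace c.pt ∧ ∀ j, IsSpectralMap (c.π.app j : c.pt → F.obj j) := by
  have := hF
  obtain ⟨he, hr⟩ := isEmbedding_toPi hc
  obtain ⟨h1, h2⟩ := spectralSpace_of_isEmbedding he (hr ▸ isClosed_cons_sectionsSet hF hFm)
  exact ⟨h1, fun j => (isSpectralMap_apply (X := fun j => F.obj j) j).comp h2⟩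

lemma isClosed_cons_preimage {j : J} {Z : Set (F.obj j)}
    (hZ : IsClosed[constructibleTopology (F.obj j)] Z) :
    IsClosed[constructibleTopology c.pt] (c.π.app j ⁻¹' Z) :=
  @IsClosed.preimage c.pt (F.obj j) (constructibleTopology _) (constructibleTopology _) _
    (continuous_cons_of_spectral ((spectralSpace_limit hF hFm hc).2 j)) _ hZ

/-- Existence of points of a limit with components in given constructibly closed subsets. -/
theorem exists_mem_limit [IsCofiltered J] (Z : ∀ j, Set (F.obj j))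
    (hZ : ∀ j, IsClosed[constructibleTopology (F.obj j)] (Z j))
    (h : ∀ (O : Finset J) (k : J) (a : ∀ i ∈ O, k ⟶ i), ∃ (k' : J) (b : k' ⟶ k) (z : F.obj k'),
      ∀ i (hi : i ∈ O), F.map (b ≫ a i hi) z ∈ Z i) :
    ∃ x : c.pt, ∀ j, c.π.app j x ∈ Z j := by
  classical
  have := hF
  have hne : ∀ j : J, Nonempty (F.obj j) := fun j => by
    obtain ⟨k', b, z, -⟩ := h ∅ j fun i hi => absurd hi (Finset.notMem_empty i)
    exact ⟨F.map b z⟩
  let A : J ⊕ (Σ i j : J, i ⟶ j) → Set (∀ j, F.obj j) := Sum.elim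
    (fun j => (fun x : ∀ j, F.obj j => x j) ⁻¹' Z j)
    (fun a => {x | F.map a.2.2 (x a.1) = x a.2.1})
  have hA : ∀ t, IsClosed[constructibleTopology (∀ j, F.obj j)] (A t) := by
    rintro (j | ⟨i, j, a⟩)
    · exact @IsClosed.preimage _ _ (constructibleTopology _) (constructibleTopology _) _
        (continuous_cons_of_spectral (isSpectralMap_apply (X := fun j => F.obj j) j)) _ (hZ j)
    · exact isClosed_cons_eq hF hFm a
  let f : J ⊕ (Σ i j : J, i ⟶ j) → Finset J := Sum.elim (fun j => {j}) (fun a => {a.1, a.2.1})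
  have hfin : ∀ t : Finset (J ⊕ (Σ i j : J, i ⟶ j)), (⋂ r ∈ t, A r).Nonempty := by
    intro t
    let O := t.biUnion f
    have hl : ∀ i j (a : i ⟶ j), (.inr ⟨i, j, a⟩ : J ⊕ (Σ i j : J, i ⟶ j)) ∈ t → i ∈ O ∧ j ∈ O :=
      fun i j a ha => ⟨Finset.mem_biUnion.2 ⟨_, ha, Finset.mem_insert_self _ _⟩,
        Finset.mem_biUnion.2 ⟨_, ha, Finset.mem_insert_of_mem (Finset.mem_singleton_self _)⟩⟩
    have hj : ∀ j, (.inl j : J ⊕ (Σ i j : J, i ⟶ j)) ∈ t → j ∈ O :=
      fun j ha => Finset.mem_biUnion.2 ⟨_, ha, Finset.mem_singleton_self _⟩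
    let H : Finset ((X : J) ×' (Y : J) ×' (_ : X ∈ O) ×' (_ : Y ∈ O) ×' (X ⟶ Y)) :=
      t.toRight.attach.image fun a =>
        ⟨a.1.1, a.1.2.1, (hl _ _ a.1.2.2 (Finset.mem_toRight.1 a.2)).1,
          (hl _ _ a.1.2.2 (Finset.mem_toRight.1 a.2)).2, a.1.2.2⟩
    obtain ⟨k, T, hT⟩ := IsCofiltered.inf_exists O H
    obtain ⟨k', b, z, hz⟩ := h O k fun i hi => T hi
    let x : ∀ j, F.obj j := fun j => if hj : j ∈ O then F.map (b ≫ T hj) z else (hne j).some
    have hx : ∀ j (hj : j ∈ O), x j = F.map (b ≫ T hj) z := fun j hj => dif_pos hj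
    refine ⟨x, mem_iInter₂.2 ?_⟩
    rintro (j | ⟨i, j, a⟩) ht
    · show x j ∈ Z j
      rw [hx j (hj j ht)]
      exact hz j (hj j ht)
    · obtain ⟨hi, hj⟩ := hl i j a ht
      show F.map a (x i) = x j
      rw [hx i hi, hx j hj, ← ConcreteCategory.comp_apply, ← F.map_comp, Category.assoc]
      have hmem : (⟨i, j, hi, hj, a⟩ : (X : J) ×' (Y : J) ×' (_ : X ∈ O) ×' (_ : Y ∈ O) ×' (X ⟶ Y)) ∈ H :=
        Finset.mem_image.2 ⟨⟨⟨i, j, a⟩, Finset.mem_toRight.2 ht⟩, Finset.mem_attach _ _, rfl⟩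
      rw [hT hi hj hmem]
  obtain ⟨x, hx⟩ := nonempty_iInter_cons A hA hfin
  rw [mem_iInter] at hx
  obtain ⟨y, hy⟩ : x ∈ Set.range (toPi c) := by
    rw [(isEmbedding_toPi hc).2]
    exact fun i j a => hx (.inr ⟨i, j, a⟩)
  exact ⟨y, fun j => by
    have := hx (.inl j)
    rw [← hy] at this
    exact this⟩

theorem exists_mem_limit_of_mapsTo [IsCofiltered J] (Z : ∀ j, Set (F.obj j))
    (hne : ∀ j, (Z j).Nonempty) (hZ : ∀ j, IsClosed[constructibleTopology (F.obj j)] (Z j))
    (hm : ∀ {i j : J} (a : i ⟶ j), Set.MapsTo (F.map a) (Z i) (Z j)) :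
    ∃ x : c.pt, ∀ j, c.π.app j x ∈ Z j :=
  exists_mem_limit hF hFm hc Z hZ fun O k a => by
    obtain ⟨z, hz⟩ := hne k
    exact ⟨k, 𝟙 k, z, fun i hi => by rw [Category.id_comp]; exact hm _ hz⟩

/-- An inclusion of preimages in the limit holds at a finite stage. -/
theorem exists_preimage_subset [IsCofiltered J] {i : J} {E E' : Set (F.obj i)}
    (hE : IsClosed[constructibleTopology (F.obj i)] E)
    (hE' : IsOpen[constructibleTopology (F.obj i)] E')
    (h : c.π.app i ⁻¹' E ⊆ c.π.app i ⁻¹' E') :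
    ∃ (j : J) (a : j ⟶ i), F.map a ⁻¹' E ⊆ F.map a ⁻¹' E' := by
  classical
  by_contra hne
  push Not at hne
  let Z : ∀ j, Set (F.obj j) := fun j =>
    {z | ∀ hj : j = i, hj ▸ z ∈ E ∩ E'ᶜ}
  have hZi : Z i = E ∩ E'ᶜ := Set.ext fun z => ⟨fun hz => hz rfl, fun hz _ => hz⟩
  have hZ : ∀ j, IsClosed[constructibleTopology (F.obj j)] (Z j) := fun j => by
    by_cases hj : j = i
    · subst hj
      rw [hZi]
      exact @IsClosed.inter _ _ _ (constructibleTopology _) hE
        ((@isClosed_compl_iff _ (constructibleTopology _) _).2 hE')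
    · rw [show Z j = univ from Set.eq_univ_of_forall fun z h => absurd h hj]
      exact @isClosed_univ _ (constructibleTopology _)
  obtain ⟨x, hx⟩ := exists_mem_limit hF hFm hc Z hZ fun O k a => by
    by_cases hi : i ∈ O
    · obtain ⟨z, hz, hz'⟩ := Set.not_subset.1 (hne k (a i hi))
      refine ⟨k, 𝟙 k, z, fun j hj => ?_⟩
      intro hji
      subst hji
      rw [Category.id_comp]
      exact ⟨hz, hz'⟩
    · obtain ⟨z, -, -⟩ := Set.not_subset.1 (hne (IsCofiltered.min k i) (IsCofiltered.minToRight k i))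
      exact ⟨_, IsCofiltered.minToLeft k i, z, fun j hj => fun hji => absurd (hji ▸ hj) hi⟩
  have := hx i
  rw [hZi] at this
  exact this.2 (h this.1)

omit hFm in
/-- The preimages of compact opens form a basis of the limit. -/
lemma exists_preimage_nhd [IsCofiltered J] {U : Set c.pt} (hU : IsOpen U) {x : c.pt} (hx : x ∈ U) :
    ∃ (i : J) (W : Set (F.obj i)), IsOpen W ∧ IsCompact W ∧ x ∈ c.π.app i ⁻¹' W ∧
      c.π.app i ⁻¹' W ⊆ U := by
  classical
  have := hF
  obtain ⟨V, hV, rfl⟩ := (isEmbedding_toPi hc).1.isInducing.isOpen_iff.1 hU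
  obtain ⟨s, A, hA, hAV⟩ := isOpen_pi_iff.1 hV (toPi c x) hx
  obtain ⟨k, hk⟩ := IsCofiltered.inf_objs_exists s
  have ho : IsOpen (⋂ j ∈ s.attach, F.map (hk j.2).some ⁻¹' A j) :=
    isOpen_biInter_finset fun j _ => (hA j j.2).1.preimage (F.map _).hom.continuous
  have hmem : c.π.app k x ∈ ⋂ j ∈ s.attach, F.map (hk j.2).some ⁻¹' A j :=
    mem_iInter₂.2 fun j _ => by
      rw [Set.mem_preimage, map_π c (hk j.2).some]
      exact (hA j j.2).2
  obtain ⟨W, hW, hWc, hxW, hWs⟩ := exists_compactOpen ho hmem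
  refine ⟨k, W, hW, hWc, hxW, fun y hy => hAV fun j hj => ?_⟩
  have := mem_iInter₂.1 (hWs hy) ⟨j, hj⟩ (Finset.mem_attach _ _)
  rwa [Set.mem_preimage, map_π c (hk hj).some] at this

/-- A compact open of the limit comes from a finite stage. -/
theorem exists_preimage_eq [IsCofiltered J] {U : Set c.pt} (hU : IsOpen U) (hUc : IsCompact U) :
    ∃ (i : J) (Ui : Set (F.obj i)), IsOpen Ui ∧ IsCompact Ui ∧ c.π.app i ⁻¹' Ui = U := by
  classical
  have := hF
  choose i W hW hWc hxW hWU using fun x : U => exists_preimage_nhd hF hc hU x.2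
  obtain ⟨t, ht⟩ := hUc.elim_finite_subcover (fun x : U => c.π.app (i x) ⁻¹' W x)
    (fun x => (hW x).preimage (c.π.app (i x)).hom.continuous)
    (fun x hx => mem_iUnion.2 ⟨⟨x, hx⟩, hxW ⟨x, hx⟩⟩)
  obtain ⟨k, hk⟩ := IsCofiltered.inf_objs_exists (t.image i)
  have hk' : ∀ x ∈ t, Nonempty (k ⟶ i x) := fun x hx => hk (Finset.mem_image_of_mem i hx)
  refine ⟨k, ⋃ x ∈ t.attach, F.map (hk' x x.2).some ⁻¹' W x,
    isOpen_biUnion fun x _ => (hW x).preimage (F.map _).hom.continuous,
    t.attach.finite_toSet.isCompact_biUnion fun x _ =>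
      (hFm _).isCompact_preimage_of_isOpen (hW x) (hWc x), ?_⟩
  ext y
  simp only [Set.preimage_iUnion, Set.mem_iUnion, Set.mem_preimage, exists_prop]
  constructor
  · rintro ⟨x, -, hx⟩
    exact hWU x.1 (by rwa [Set.mem_preimage, ← map_π c (hk' x x.2).some])
  · intro hy
    obtain ⟨x, hx, hxy⟩ := mem_iUnion₂.1 (ht hy)
    exact ⟨⟨x, hx⟩, Finset.mem_attach _ _, by
      rw [map_π c]
      exact hxy⟩

/-- A constructible set of the limit comes from a finite stage. -/
theorem exists_constructible_preimage_eq [IsCofiltered J] {E : Set c.pt} (hE : IsConstructible E) :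
    ∃ (i : J) (Ei : Set (F.obj i)), IsConstructible Ei ∧ c.π.app i ⁻¹' Ei = E := by
  have := hF
  have hs := (spectralSpace_limit hF hFm hc).1
  induction hE using IsConstructible.empty_union_induction with
  | open_retrocompact U hU hr =>
    obtain ⟨i, Ui, h1, h2, h3⟩ := exists_preimage_eq hF hFm hc hU (by simpa using hr isCompact_univ isOpen_univ)
    exact ⟨i, Ui, h2.isConstructible h1, h3⟩
  | union s hs t ht h h' =>
    obtain ⟨i, A, hA, rfl⟩ := h
    obtain ⟨j, B, hB, rfl⟩ := h'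
    have hpre : ∀ {k l : J} (a : k ⟶ l) {A : Set (F.obj l)}, IsConstructible A →
        IsConstructible (F.map a ⁻¹' A) := fun {k l} a A hA =>
      isConstructible_iff_clopen_cons.2
        ⟨@IsOpen.preimage _ _ (constructibleTopology _) (constructibleTopology _) _
            (continuous_cons_of_spectral (hFm a)) _ (isOpen_cons_of_isConstructible hA),
          @IsClosed.preimage _ _ (constructibleTopology _) (constructibleTopology _) _
            (continuous_cons_of_spectral (hFm a)) _ (isClosed_cons_of_isConstructible hA)⟩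
    refine ⟨IsCofiltered.min i j, _, (hpre (IsCofiltered.minToLeft i j) hA).union
      (hpre (IsCofiltered.minToRight i j) hB), Set.ext fun y => ?_⟩
    simp only [Set.preimage_union, Set.mem_union, Set.mem_preimage]
    rw [map_π c, map_π c]
  | compl s hs h =>
    obtain ⟨i, A, hA, rfl⟩ := h
    exact ⟨i, Aᶜ, hA.compl, rfl⟩

end Groth.Agent.SpecSp
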