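import Groth.Agent.Props12.Catenary
import Mathlib.Topology.Sober

/-!
# Codimensions in catenary spaces
-/

set_option autoImplicit false

universe u v

open TopologicalSpace Topology Groth.Agent.Props12

namespace Groth.Agent.SpecSp

variable {X : Type u} [TopologicalSpace X]

lemma exists_cov_chain {T T' : IrreducibleCloseds X} (hle : T ≤ T')
    (hfin : PtTop.codim T (T' : Set X) ≠ ⊤) :
    ∃ s : LTSeries (IrreducibleCloseds X), s.head = T ∧ s.last = T' ∧
      (∀ i : Fin s.length, s (Fin.castSucc i) ⋖ s (Fin.succ i)) ∧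
      (s.length : ℕ∞) = PtTop.codim T (T' : Set X) := by
  classical
  obtain ⟨n, hn⟩ := ENat.ne_top_iff_exists.1 hfin
  have hb : ∀ v : LTSeries (IrreducibleCloseds X), v.head = T → v.last = T' → v.length ≤ n :=
    fun v h1 h2 => Nat.cast_le.1 ((le_codim v h1 h2).trans hn.ge)
  obtain ⟨s0, h0, h0'⟩ : ∃ s : LTSeries (IrreducibleCloseds X), s.head = T ∧ s.last = T' := by
    rcases eq_or_lt_of_le hle with h | h
    · exact ⟨RelSeries.singleton _ T, rfl, h⟩
    · exact ⟨(RelSeries.singleton _ T).snoc T' h, by simp, by simp⟩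
  let P : ℕ → Prop := fun k => ∃ u : LTSeries (IrreducibleCloseds X), u.head = T ∧ u.last = T' ∧ u.length = k
  obtain ⟨s, h1, h2, h3⟩ := Nat.findGreatest_spec (P := P) (hb s0 h0 h0') ⟨s0, h0, h0', rfl⟩
  have hmax : ∀ v : LTSeries (IrreducibleCloseds X), v.head = T → v.last = T' → v.length ≤ s.length :=
    fun v g1 g2 => h3 ▸ Nat.le_findGreatest (P := P) (hb v g1 g2) ⟨v, g1, g2, rfl⟩
  refine ⟨s, h1, h2, fun i => ?_, le_antisymm (le_codim s h1 h2) (codim_le_of_bound hmax)⟩
  by_contra hi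
  obtain ⟨w, w1, w2, wl⟩ := exists_longer_of_not_covBy s i hi
  have := hmax w (w1.trans h1) (w2.trans h2)
  omega

lemma codim_self (T : IrreducibleCloseds X) : PtTop.codim T (T : Set X) = 0 := by
  refine le_antisymm (codim_le_of_bound (n := 0) fun s h1 h2 => ?_) bot_le
  by_contra h
  have h3 : s.head < s.last := s.strictMono (show (0 : Fin (s.length + 1)) < Fin.last _ from
    Fin.lt_def.2 (by simp; omega))
  rw [h1, h2] at h3
  exact lt_irrefl _ h3

lemma codim_of_covBy {A B : IrreducibleCloseds X} (h : A ⋖ B) : PtTop.codim A (B : Set X) = 1 := by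
  refine le_antisymm (codim_le_of_bound (n := 1) fun s h1 h2 => ?_) ?_
  · by_contra hl
    have ha : s.head < s ⟨1, by omega⟩ := s.strictMono (Fin.lt_def.2 (by simp))
    have hb : s ⟨1, by omega⟩ < s.last := s.strictMono (Fin.lt_def.2 (by simp; omega))
    rw [h1] at ha
    rw [h2] at hb
    exact h.2 ha hb
  · exact le_of_eq_of_le (by simp) (le_codim ((RelSeries.singleton _ A).snoc B h.1) (by simp) (by simp))

lemma oCat_lower {P : Type u} {Q : Type v} [PartialOrder P] [PartialOrder Q] (e : Q ↪o P)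
    (h : IsLowerSet (Set.range e)) (hP : OCat P) : OCat Q := by
  have h2 : OCat Qᵒᵈ := OCat.of_upper e.dual
    (fun a b hab ⟨q, hq⟩ => h (show (OrderDual.ofDual b) ≤ OrderDual.ofDual a from hab)
      ⟨OrderDual.ofDual q, hq⟩ |>.elim fun q' hq' => ⟨OrderDual.toDual q', hq'⟩) hP.dual
  exact OCat.dual h2

/-- Irreducible closed subsets of an open subspace. -/
noncomputable def openEmb {U : Type u} [TopologicalSpace U] (f : U → X) (hf : IsOpenEmbedding f) :
    IrreducibleCloseds U ↪o IrreducibleCloseds X :=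
  (IrreducibleCloseds.orderIsoOfIsOpenEmbedding f hf).toOrderEmbedding.trans (OrderEmbedding.subtype _)

lemma mem_range_openEmb {U : Type u} [TopologicalSpace U] (f : U → X) (hf : IsOpenEmbedding f)
    (T : IrreducibleCloseds X) : T ∈ Set.range (openEmb f hf) ↔ (f ⁻¹' (T : Set X)).Nonempty := by
  refine ⟨?_, fun h => ⟨(IrreducibleCloseds.orderIsoOfIsOpenEmbedding f hf).symm ⟨T, h⟩, ?_⟩⟩
  · rintro ⟨q, rfl⟩
    exact ((IrreducibleCloseds.orderIsoOfIsOpenEmbedding f hf) q).2
  · simp [openEmb]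

lemma isUpperSet_openEmb {U : Type u} [TopologicalSpace U] (f : U → X) (hf : IsOpenEmbedding f) :
    IsUpperSet (Set.range (openEmb f hf)) := fun a b hab ha => by
  rw [mem_range_openEmb] at ha ⊢
  exact ha.mono (Set.preimage_mono hab)

/-- Irreducible closed subsets of a subspace. -/
noncomputable def embMap {C : Type u} [TopologicalSpace C] (f : C → X) (hf : IsEmbedding f) :
    IrreducibleCloseds C ↪o IrreducibleCloseds X :=
  OrderEmbedding.ofMapLEIff (fun Z => ⟨closure (f '' (Z : Set C)),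
      (Z.isIrreducible.image f hf.continuous.continuousOn).closure, isClosed_closure⟩) fun A B => by
    refine ⟨fun h => ?_, fun h => closure_mono (Set.image_mono h)⟩
    have h' : f ⁻¹' closure (f '' (A : Set C)) ⊆ f ⁻¹' closure (f '' (B : Set C)) := Set.preimage_mono h
    rw [← hf.closure_eq_preimage_closure_image, ← hf.closure_eq_preimage_closure_image,
      A.isClosed.closure_eq, B.isClosed.closure_eq] at h'
    exact h'

lemma isLowerSet_embMap {C : Type u} [TopologicalSpace C] (f : C → X) (hf : IsClosedEmbedding f) :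
    IsLowerSet (Set.range (embMap f hf.isEmbedding)) := by
  rintro _ W hW ⟨Z, rfl⟩
  have hsub : (W : Set X) ⊆ Set.range f := fun w hw => by
    have h2 : w ∈ closure (f '' (Z : Set C)) := hW hw
    rw [(hf.isClosedMap _ Z.isClosed).closure_eq] at h2
    exact Set.image_subset_range f _ h2
  have himg : f '' (f ⁻¹' (W : Set X)) = W := Set.image_preimage_eq_of_subset hsub
  have hirr : IsIrreducible (f ⁻¹' (W : Set X)) := by
    obtain ⟨⟨w, hw⟩, hp⟩ := W.isIrreducible
    obtain ⟨c, rfl⟩ := hsub hw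
    refine ⟨⟨c, hw⟩, fun u v hu hv ⟨a, ha, hau⟩ ⟨b, hb, hbv⟩ => ?_⟩
    obtain ⟨u', hu', rfl⟩ := hf.isInducing.isOpen_iff.1 hu
    obtain ⟨v', hv', rfl⟩ := hf.isInducing.isOpen_iff.1 hv
    obtain ⟨x, hx, hxu, hxv⟩ := hp u' v' hu' hv' ⟨f a, ha, hau⟩ ⟨f b, hb, hbv⟩
    obtain ⟨c, rfl⟩ := hsub hx
    exact ⟨c, hx, hxu, hxv⟩
  exact ⟨⟨f ⁻¹' (W : Set X), hirr, W.isClosed.preimage hf.continuous⟩,
    IrreducibleCloseds.ext (show closure (f '' (f ⁻¹' (W : Set X))) = W by rw [himg, W.isClosed.closure_eq])⟩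

end Groth.Agent.SpecSp
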