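import Mathlib.Topology.Separation.Hausdorff
import Mathlib.Topology.Compactness.Compact
import Mathlib.Topology.Compactness.LocallyCompact

/-!
# Shrinking coverings of compact sets
-/

set_option autoImplicit false

universe u

open Set Filter Topology

namespace Groth.Agent.SpecSp

variable {X : Type u} [TopologicalSpace X] {Z : Set X}
  (hZsep : ∀ z ∈ Z, ∀ z' ∈ Z, z ≠ z' → ∃ A B : Set X, IsOpen A ∧ IsOpen B ∧ z ∈ A ∧ z' ∈ B ∧ Disjoint A B)

include hZsep

lemma exists_separation {K L : Set X} (hK : IsCompact K) (hL : IsCompact L) (hKZ : K ⊆ Z) (hLZ : L ⊆ Z)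
    (hd : Disjoint K L) :
    ∃ A B : Set X, IsOpen A ∧ IsOpen B ∧ K ⊆ A ∧ L ⊆ B ∧ Disjoint A B := by
  have h : Disjoint (𝓝ˢ K) (𝓝ˢ L) :=
    hK.disjoint_nhdsSet_left.2 fun x hx => (hL.disjoint_nhdsSet_right.2 fun y hy => by
      obtain ⟨A, B, hA, hB, hxA, hyB, hAB⟩ := hZsep x (hKZ hx) y (hLZ hy)
        (fun e => Set.disjoint_left.1 hd hx (e ▸ hy))
      exact Filter.disjoint_iff.2 ⟨A, hA.mem_nhds hxA, B, hB.mem_nhds hyB, hAB⟩)
  obtain ⟨A, hA, B, hB, hAB⟩ := Filter.disjoint_iff.1 h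
  exact ⟨interior A, interior B, isOpen_interior, isOpen_interior, subset_interior_iff_mem_nhdsSet.2 hA,
    subset_interior_iff_mem_nhdsSet.2 hB, hAB.mono interior_subset interior_subset⟩

lemma nhdsSet_inter_le {K L : Set X} (hK : IsCompact K) (hL : IsCompact L) (hKZ : K ⊆ Z) (hLZ : L ⊆ Z) :
    𝓝ˢ K ⊓ 𝓝ˢ L ≤ 𝓝ˢ (K ∩ L) := fun W hW => by
  obtain ⟨O, hO, hKL, hOW⟩ := mem_nhdsSet_iff_exists.1 hW
  obtain ⟨A, B, hA, hB, hKA, hLB, hAB⟩ := exists_separation hZsep (hK.diff hO) hL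
    (fun x hx => hKZ hx.1) hLZ (Set.disjoint_left.2 fun x hx hxL => hx.2 (hKL ⟨hx.1, hxL⟩))
  refine mem_inf_iff_superset.2 ⟨A ∪ O, (hA.union hO).mem_nhdsSet.2 fun x hx => ?_, B,
    hB.mem_nhdsSet.2 hLB, fun x hx => hx.1.elim (fun h => absurd hx.2 (Set.disjoint_left.1 hAB h)) fun h => hOW h⟩
  by_cases hxO : x ∈ O
  exacts [Or.inr hxO, Or.inl (hKA ⟨hx, hxO⟩)]

lemma exists_nhds_inter_subset {n : ℕ} (K : Fin (n + 1) → Set X) (hK : ∀ l, IsCompact (K l))
    (hKZ : ∀ l, K l ⊆ Z) (hZ : ∀ A B : Set X, IsCompact A → IsCompact B → A ⊆ Z → B ⊆ Z → IsCompact (A ∩ B))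
    {W : Set X} (hW : IsOpen W) (h : ⋂ l, K l ⊆ W) :
    ∃ V : Fin (n + 1) → Set X, (∀ l, IsOpen (V l)) ∧ (∀ l, K l ⊆ V l) ∧ ⋂ l, V l ⊆ W := by
  induction n generalizing W with
  | zero => exact ⟨fun _ => W, fun _ => hW, fun l => by
      obtain rfl : l = 0 := Fin.fin_one_eq_zero l
      exact fun x hx => h (mem_iInter.2 fun l => (Fin.fin_one_eq_zero l) ▸ hx), iInter_subset _ 0⟩
  | succ n ih =>
    have hc : ∀ m : ℕ, ∀ L : Fin (m + 1) → Set X, (∀ l, IsCompact (L l)) → (∀ l, L l ⊆ Z) → IsCompact (⋂ l, L l) := by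
      intro m
      induction m with
      | zero => intro L hL _; rw [show (⋂ l, L l) = L 0 from (iInter_subset _ 0).antisymm (subset_iInter fun l => by rw [Fin.fin_one_eq_zero l])]; exact hL 0
      | succ m ih' =>
        intro L hL hLZ
        have he : (⋂ l, L l) = L 0 ∩ ⋂ l : Fin (m + 1), L l.succ := by
          ext x; simp [Fin.forall_fin_succ]
        rw [he]
        exact hZ _ _ (hL 0) (ih' _ (fun l => hL _) fun l => hLZ _) (hLZ 0) ((iInter_subset _ 0).trans (hLZ _))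
    have hW' : W ∈ 𝓝ˢ (K 0 ∩ ⋂ l : Fin (n + 1), K l.succ) := hW.mem_nhdsSet.2 fun x hx => h (mem_iInter.2 fun l => by
      refine Fin.cases hx.1 (fun l => mem_iInter.1 hx.2 l) l)
    obtain ⟨A, hA, B, hB, hAB⟩ := mem_inf_iff_superset.1 (nhdsSet_inter_le hZsep (hK 0) (hc n _ (fun l => hK _) fun l => hKZ _)
      (hKZ 0) ((iInter_subset _ 0).trans (hKZ _)) hW')
    obtain ⟨V, hV, hKV, hVB⟩ := ih (fun l => K l.succ) (fun l => hK _) (fun l => hKZ _) isOpen_interior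
      (subset_interior_iff_mem_nhdsSet.2 hB)
    refine ⟨Fin.cases (interior A) V, Fin.cases isOpen_interior hV,
      Fin.cases (subset_interior_iff_mem_nhdsSet.2 hA) hKV, fun x hx => hAB ⟨?_, ?_⟩⟩
    · exact interior_subset (mem_iInter.1 hx 0)
    · exact interior_subset (hVB (mem_iInter.2 fun l => mem_iInter.1 hx l.succ))

variable (hZ : IsCompact Z)
include hZ

lemma isCompact_inter' {A B : Set X} (hA : IsCompact A) (hB : IsCompact B) (hAZ : A ⊆ Z) (hBZ : B ⊆ Z) :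
    IsCompact (A ∩ B) := by
  have : T2Space Z := ⟨fun a b hab => by
    obtain ⟨U, V, hU, hV, ha, hb, hUV⟩ := hZsep a a.2 b b.2 fun e => hab (Subtype.ext e)
    exact ⟨_, _, hU.preimage continuous_subtype_val, hV.preimage continuous_subtype_val, ha, hb, hUV.preimage _⟩⟩
  have : CompactSpace Z := isCompact_iff_compactSpace.1 hZ
  have h : ∀ {C : Set X}, IsCompact C → C ⊆ Z → IsCompact ((Subtype.val : Z → X) ⁻¹' C) := fun {C} hC hCZ =>
    Topology.IsEmbedding.subtypeVal.isCompact_iff.2 (by rwa [Subtype.image_preimage_coe, Set.inter_eq_right.2 hCZ])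
  have h2 := ((h hA hAZ).inter (h hB hBZ)).image continuous_subtype_val
  rwa [← Set.preimage_inter, Subtype.image_preimage_coe, Set.inter_eq_right.2 (fun x hx => hAZ hx.1)] at h2

/-- The main lemma. -/
theorem exists_shrink {ι : Type u} (U : ι → Set X) (hU : ∀ i, IsOpen (U i)) (hcov : Z ⊆ ⋃ i, U i) {p : ℕ}
    (W : (Fin (p + 1) → ι) → Set X) (hWo : ∀ t, IsOpen (W t))
    (hWZ : ∀ t, W t ∩ Z = (⋂ l, U (t l)) ∩ Z) :
    ∃ (s : Finset ι) (K V : ι → Set X), (∀ i, IsOpen (V i)) ∧ (∀ i, IsCompact (K i) ∧ K i ⊆ U i ∧ K i ⊆ V i) ∧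
      (∀ i ∉ s, V i = ∅) ∧ Z ⊆ ⋃ i, K i ∧ (∀ i, V i ⊆ U i) ∧ (∀ i, closure (V i) ∩ Z ⊆ U i) ∧
      ∀ t : Fin (p + 1) → ι, (⋂ l, V (t l)) ⊆ W t := by
  classical
  have hT2 : T2Space Z := ⟨fun a b hab => by
    obtain ⟨U, V, hU, hV, ha, hb, hUV⟩ := hZsep a a.2 b b.2 fun e => hab (Subtype.ext e)
    exact ⟨_, _, hU.preimage continuous_subtype_val, hV.preimage continuous_subtype_val, ha, hb, hUV.preimage _⟩⟩
  have : CompactSpace Z := isCompact_iff_compactSpace.1 hZ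
  obtain ⟨s, hs⟩ := hZ.elim_finite_subcover U hU hcov
  obtain ⟨K', hK', hK'U, hK'cov⟩ := (isCompact_univ (X := Z)).finite_compact_cover s
    (fun i => (Subtype.val : Z → X) ⁻¹' U i) (fun i _ => (hU i).preimage continuous_subtype_val)
    (fun z _ => by simpa using hs z.2)
  let K : ι → Set X := fun i => if i ∈ s then Subtype.val '' K' i else ∅
  have hKc : ∀ i, IsCompact (K i) := fun i => by
    simp only [K]; split_ifs
    exacts [(hK' i).image continuous_subtype_val, isCompact_empty]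
  have hKZ : ∀ i, K i ⊆ Z := fun i x hx => by
    simp only [K] at hx; split_ifs at hx
    · obtain ⟨z, -, rfl⟩ := hx; exact z.2
    · exact absurd hx (notMem_empty x)
  have hKU : ∀ i, K i ⊆ U i := fun i x hx => by
    simp only [K] at hx; split_ifs at hx
    · obtain ⟨z, hz, rfl⟩ := hx; exact hK'U i hz
    · exact absurd hx (notMem_empty x)
  have hKcov : Z ⊆ ⋃ i, K i := fun z hz => by
    obtain ⟨i, hi, hzi⟩ := mem_iUnion₂.1 (hK'cov ▸ mem_univ (⟨z, hz⟩ : Z) : (⟨z, hz⟩ : Z) ∈ ⋃ i ∈ s, K' i)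
    exact mem_iUnion.2 ⟨i, by simp only [K, if_pos hi]; exact ⟨_, hzi, rfl⟩⟩
  have hP : ∀ i, ∃ P, IsOpen P ∧ K i ⊆ P ∧ P ⊆ U i ∧ closure P ∩ Z ⊆ U i := fun i => by
    obtain ⟨A, B, hA, hB, hKA, hLB, hAB⟩ := exists_separation hZsep (hKc i) (hZ.diff (hU i)) (hKZ i) Set.sdiff_subset
      (Set.disjoint_left.2 fun x hx hx' => hx'.2 (hKU i hx))
    refine ⟨A ∩ U i, hA.inter (hU i), subset_inter hKA (hKU i), inter_subset_right, fun x hx => by_contra fun hxU => ?_⟩
    have hxB : x ∈ B := hLB ⟨hx.2, hxU⟩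
    obtain ⟨y, hyB, hy⟩ := mem_closure_iff.1 hx.1 B hB hxB
    exact Set.disjoint_left.1 hAB hy.1 hyB
  choose P hPo hKP hPU hPcl using hP
  have hV : ∀ t : Fin (p + 1) → s, ∃ V : Fin (p + 1) → Set X, (∀ l, IsOpen (V l)) ∧ (∀ l, K (t l) ⊆ V l) ∧
      ⋂ l, V l ⊆ W fun l => t l := fun t =>
    exists_nhds_inter_subset hZsep (fun l => K (t l)) (fun l => hKc _) (fun l => hKZ _)
      (fun A B => isCompact_inter' hZsep hZ) (hWo _) fun x hx => by
        have h1 : x ∈ (⋂ l, U (t l)) ∩ Z := ⟨mem_iInter.2 fun l => hKU _ (mem_iInter.1 hx l), hKZ _ (mem_iInter.1 hx 0)⟩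
        rw [← hWZ (fun l => (t l : ι))] at h1
        exact h1.1
  choose V hVo hKV hVW using hV
  let T : ι → Set X := fun i =>
    if i ∈ s then P i ∩ ⋂ t, ⋂ l, (if (t l : ι) = i then V t l else Set.univ) else ∅
  have hTP : ∀ i, T i ⊆ P i := fun i => by simp only [T]; split_ifs; exacts [inter_subset_left, empty_subset _]
  refine ⟨s, K, T, fun i => ?_, fun i => ⟨hKc i, hKU i, ?_⟩, fun i hi => if_neg hi, hKcov,
    fun i => (hTP i).trans (hPU i), fun i => (inter_subset_inter_left _ (closure_mono (hTP i))).trans (hPcl i), fun t => ?_⟩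
  · simp only [T]
    split_ifs
    · exact (hPo i).inter (isOpen_iInter_of_finite fun t => isOpen_iInter_of_finite fun l => by
        split_ifs; exacts [hVo t l, isOpen_univ])
    · exact isOpen_empty
  · intro x hx
    by_cases hi : i ∈ s
    · simp only [T, if_pos hi]
      refine ⟨hKP i hx, mem_iInter₂.2 fun t l => ?_⟩
      split_ifs with h
      exacts [hKV t l (h.symm ▸ hx), trivial]
    · simp only [K, if_neg hi] at hx
      exact absurd hx (notMem_empty x)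
  · intro x hx
    have hts : ∀ l, t l ∈ s := fun l => by
      by_contra h
      have := mem_iInter.1 hx l
      simp only [T, if_neg h] at this
      exact this
    refine hVW (fun l => ⟨t l, hts l⟩) (mem_iInter.2 fun l => ?_)
    have := mem_iInter.1 hx l
    simp only [T, if_pos (hts l)] at this
    simpa using mem_iInter₂.1 this.2 (fun l => ⟨t l, hts l⟩) l

end Groth.Agent.SpecSp
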