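import Groth.Prelude.Def_W4stktopologysheavesDim
import Groth.Agent.SpecSp.Basic

/-!
# Soberification
-/

set_option autoImplicit false

universe u

open TopologicalSpace Topology Set

namespace Groth.Agent.SpecSp.Sob

variable {X : Type u} [TopologicalSpace X]

/-- The irreducible closed sets meeting an open. -/
def op (U : Opens X) : Set (PtTop.Sob X) :=
  {Z : IrreducibleCloseds X | ((Z : Set X) ∩ (U : Set X)).Nonempty}

lemma op_top : op (⊤ : Opens X) = univ :=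
  eq_univ_of_forall fun Z : IrreducibleCloseds X => ⟨_, Z.isIrreducible.nonempty.some_mem, trivial⟩

lemma op_inf (U V : Opens X) : op (U ⊓ V) = op U ∩ op V :=
  Set.ext fun Z => ⟨fun ⟨x, hx, hxU, hxV⟩ => ⟨⟨x, hx, hxU⟩, ⟨x, hx, hxV⟩⟩,
    fun h => (show IrreducibleCloseds X from Z).isIrreducible.2 U V U.isOpen V.isOpen h.1 h.2⟩

lemma op_iSup {ι : Sort*} (U : ι → Opens X) : op (⨆ i, U i) = ⋃ i, op (U i) := by
  ext Z
  refine ⟨fun ⟨x, hx, hxU⟩ => ?_, fun h => ?_⟩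
  · obtain ⟨i, hi⟩ := Opens.mem_iSup.1 hxU
    exact mem_iUnion.2 ⟨i, x, hx, hi⟩
  · obtain ⟨i, x, hx, hi⟩ := mem_iUnion.1 h
    exact ⟨x, hx, Opens.mem_iSup.2 ⟨i, hi⟩⟩

lemma isOpen_iff {S : Set (PtTop.Sob X)} : IsOpen S ↔ ∃ U : Opens X, S = op U := by
  refine ⟨fun h => ?_, fun ⟨U, hU⟩ => isOpen_generateFrom_of_mem ⟨U, hU⟩⟩
  induction h with
  | basic s hs => exact hs
  | univ => exact ⟨⊤, op_top.symm⟩
  | inter s t _ _ hs ht =>
    obtain ⟨U, rfl⟩ := hs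
    obtain ⟨V, rfl⟩ := ht
    exact ⟨U ⊓ V, (op_inf U V).symm⟩
  | sUnion S _ ih =>
    choose U hU using ih
    refine ⟨⨆ (s) (hs : s ∈ S), U s hs, ?_⟩
    rw [op_iSup, sUnion_eq_biUnion]
    exact iUnion_congr fun s => by rw [op_iSup]; exact iUnion_congr fun hs => hU s hs

lemma preimage_op (U : Opens X) : PtTop.toSob X ⁻¹' op U = U := by
  ext x
  refine ⟨fun ⟨y, hy, hyU⟩ => ?_, fun h => ⟨x, subset_closure rfl, h⟩⟩
  exact (specializes_iff_mem_closure.2 hy).mem_open U.isOpen hyU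

lemma continuous_toSob : Continuous (PtTop.toSob X) :=
  continuous_generateFrom_iff.2 fun s ⟨U, hU⟩ => by rw [hU]; exact (preimage_op U).symm ▸ U.isOpen

lemma op_le_op {U V : Opens X} (h : op U ⊆ op V) : U ≤ V := by
  intro x hx
  have : x ∈ PtTop.toSob X ⁻¹' op V := h ((preimage_op U).symm ▸ hx : x ∈ PtTop.toSob X ⁻¹' op U)
  rwa [preimage_op] at this

lemma op_mono {U V : Opens X} (h : U ≤ V) : op U ⊆ op V := fun _ ⟨x, hx, hxU⟩ => ⟨x, hx, h hxU⟩

lemma specializes_iff {a b : PtTop.Sob X} :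
    a ⤳ b ↔ (show IrreducibleCloseds X from b) ≤ (show IrreducibleCloseds X from a) := by
  refine ⟨fun h => ?_, fun h => specializes_iff_forall_open.2 fun S hS hb => ?_⟩
  · intro x hx
    by_contra hxa
    obtain ⟨y, hy, hy'⟩ := h.mem_open (isOpen_iff.2
      ⟨⟨((show IrreducibleCloseds X from a) : Set X)ᶜ, (IrreducibleCloseds.isClosed _).isOpen_compl⟩, rfl⟩)
      ⟨x, hx, hxa⟩
    exact hy' hy
  · obtain ⟨U, rfl⟩ := isOpen_iff.1 hS
    obtain ⟨x, hx, hxU⟩ := hb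
    exact ⟨x, h hx, hxU⟩

instance : T0Space (PtTop.Sob X) where
  t0 _ _ h := le_antisymm (α := IrreducibleCloseds X) (specializes_iff.1 h.specializes')
    (specializes_iff.1 h.specializes)

instance : QuasiSober (PtTop.Sob X) where
  sober {S} hS hc := by
    obtain ⟨U, hU⟩ := isOpen_iff.1 hc.isOpen_compl
    have hmem : ∀ Z : IrreducibleCloseds X, (Z : PtTop.Sob X) ∈ S ↔ (Z : Set X) ⊆ (U : Set X)ᶜ := fun Z => by
      have h1 : (Z : PtTop.Sob X) ∈ Sᶜ ↔ ((Z : Set X) ∩ (U : Set X)).Nonempty := by rw [hU]; rfl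
      refine ⟨fun h y hy hyU => h1.2 ⟨y, hy, hyU⟩ h, fun h => by_contra fun hne => ?_⟩
      obtain ⟨y, hy, hyU⟩ := h1.1 hne
      exact h hy hyU
    obtain ⟨⟨W₀, hW₀⟩, hp⟩ := hS
    obtain ⟨w, hw⟩ := (show IrreducibleCloseds X from W₀).isIrreducible.nonempty
    have hirr : IsIrreducible ((U : Set X)ᶜ) := by
      refine ⟨⟨w, (hmem W₀).1 hW₀ hw⟩, fun u v hu hv ⟨a, ha, hau⟩ ⟨b, hb, hbv⟩ => ?_⟩
      have hpt : ∀ c : X, c ∈ (U : Set X)ᶜ → PtTop.toSob X c ∈ S := fun c hc' => (hmem _).2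
        (closure_minimal (Set.singleton_subset_iff.2 hc') U.isOpen.isClosed_compl)
      obtain ⟨Z, hZ, hZu, hZv⟩ := hp (op ⟨u, hu⟩) (op ⟨v, hv⟩) (isOpen_iff.2 ⟨_, rfl⟩) (isOpen_iff.2 ⟨_, rfl⟩)
        ⟨_, hpt a ha, a, subset_closure rfl, hau⟩ ⟨_, hpt b hb, b, subset_closure rfl, hbv⟩
      obtain ⟨z, hz, hzu, hzv⟩ := (show IrreducibleCloseds X from Z).isIrreducible.2 u v hu hv hZu hZv
      exact ⟨z, (hmem Z).1 hZ hz, hzu, hzv⟩
    let G : IrreducibleCloseds X := ⟨(U : Set X)ᶜ, hirr, U.isOpen.isClosed_compl⟩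
    refine ⟨G, (hc.closure_subset_iff.2 (Set.singleton_subset_iff.2 ((hmem G).2 subset_rfl))).antisymm
      fun Z hZ => specializes_iff_mem_closure.1 (specializes_iff.2 ((hmem Z).1 hZ))⟩

/-- Compact opens of the soberification. -/
lemma isCompact_op {U : Opens X} (h : IsCompact (U : Set X)) : IsCompact (op U) := by
  classical
  refine isCompact_of_finite_subcover fun {ι} V hV hcov => ?_
  choose W hW using fun i => isOpen_iff.1 (hV i)
  obtain ⟨t, ht⟩ := h.elim_finite_subcover (fun i => (W i : Set X)) (fun i => (W i).isOpen) fun x hx => by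
    obtain ⟨i, hi⟩ := mem_iUnion.1 (hcov ((preimage_op U).symm ▸ hx : x ∈ PtTop.toSob X ⁻¹' op U))
    rw [hW i] at hi
    exact mem_iUnion.2 ⟨i, (Set.ext_iff.1 (preimage_op (W i)) x).1 hi⟩
  refine ⟨t, fun Z ⟨x, hx, hxU⟩ => ?_⟩
  obtain ⟨i, hi, hxi⟩ := mem_iUnion₂.1 (ht hxU)
  exact mem_iUnion₂.2 ⟨i, hi, (hW i).symm ▸ ⟨x, hx, hxi⟩⟩

lemma isCompact_of_op {U : Opens X} (h : IsCompact (op U)) : IsCompact (U : Set X) := by
  classical
  refine isCompact_of_finite_subcover fun {ι} V hV hcov => ?_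
  obtain ⟨t, ht⟩ := h.elim_finite_subcover (fun i => op ⟨V i, hV i⟩) (fun i => isOpen_iff.2 ⟨_, rfl⟩)
    fun Z ⟨x, hx, hxU⟩ => by
      obtain ⟨i, hi⟩ := mem_iUnion.1 (hcov hxU)
      exact mem_iUnion.2 ⟨i, x, hx, hi⟩
  refine ⟨t, fun x hx => ?_⟩
  obtain ⟨i, hi, hxi⟩ := mem_iUnion₂.1 (ht ((preimage_op U).symm ▸ hx : x ∈ PtTop.toSob X ⁻¹' op U))
  exact mem_iUnion₂.2 ⟨i, hi, (Set.ext_iff.1 (preimage_op _) x).1 hxi⟩

lemma compactSpace [CompactSpace X] : CompactSpace (PtTop.Sob X) :=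
  ⟨op_top (X := X) ▸ isCompact_op (by simpa using isCompact_univ)⟩

lemma spectralSpace [CompactSpace X] [PrespectralSpace X] [QuasiSeparatedSpace X] :
    SpectralSpace (PtTop.Sob X) := by
  have := compactSpace (X := X)
  have hp : PrespectralSpace (PtTop.Sob X) := ⟨isTopologicalBasis_of_isOpen_of_nhds (fun S hS => hS.1) fun Z S hZ hS => by
    obtain ⟨U, rfl⟩ := isOpen_iff.1 hS
    obtain ⟨x, hx, hxU⟩ := hZ
    obtain ⟨V, hV, hVc, hxV, hVU⟩ := exists_compactOpen U.isOpen hxU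
    exact ⟨op ⟨V, hV⟩, ⟨isOpen_iff.2 ⟨_, rfl⟩, isCompact_op hVc⟩, ⟨x, hx, hxV⟩, op_mono hVU⟩⟩
  have hq : ∀ A B : Set (PtTop.Sob X), IsOpen A → IsCompact A → IsOpen B → IsCompact B → IsCompact (A ∩ B) := by
    intro A B hA hAc hB hBc
    obtain ⟨U, rfl⟩ := isOpen_iff.1 hA
    obtain ⟨V, rfl⟩ := isOpen_iff.1 hB
    rw [← op_inf]
    exact isCompact_op (QuasiSeparatedSpace.inter_isCompact _ _ U.isOpen (isCompact_of_op hAc) V.isOpen (isCompact_of_op hBc))
  exact { inter_isCompact := hq }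

lemma noetherianSpace [NoetherianSpace X] : NoetherianSpace (PtTop.Sob X) :=
  (noetherianSpace_iff_opens _).2 fun O => by
    obtain ⟨U, hU⟩ := isOpen_iff.1 O.isOpen
    exact hU ▸ isCompact_op (NoetherianSpace.isCompact _)

/-- The universal property. -/
lemma exists_lift (Y : Type u) [TopologicalSpace Y] [QuasiSober Y] [T0Space Y] (f : X → Y) (hf : Continuous f) :
    ∃ g : PtTop.Sob X → Y, Continuous g ∧ g ∘ PtTop.toSob X = f := by
  choose g hg using fun Z : IrreducibleCloseds X =>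
    QuasiSober.sober ((Z.isIrreducible.image f hf.continuousOn).closure) isClosed_closure
  refine ⟨g, continuous_def.2 fun V hV => isOpen_iff.2 ⟨⟨f ⁻¹' V, hV.preimage hf⟩, Set.ext fun Z => ?_⟩, funext fun x => ?_⟩
  · refine ⟨fun h => ?_, fun ⟨x, hx, hxV⟩ => ((hg Z).specializes (subset_closure ⟨x, hx, rfl⟩)).mem_open hV hxV⟩
    obtain ⟨_, h2, x, hx, rfl⟩ := mem_closure_iff.1 (hg Z).mem V hV h
    exact ⟨x, hx, h2⟩
  · refine ((hg (⟨closure {x}, isIrreducible_singleton.closure, isClosed_closure⟩ : IrreducibleCloseds X)).eq ?_)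
    refine (closure_mono ?_).antisymm (closure_minimal ?_ isClosed_closure)
    · exact Set.singleton_subset_iff.2 ⟨x, subset_closure rfl, rfl⟩
    · refine (image_closure_subset_closure_image hf).trans ?_
      rw [Set.image_singleton]

end Groth.Agent.SpecSp.Sob
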